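import Mathlib

/-!
# 2-transitive groups which are the union of at most two double cosets (helper206, S4247, task 5881)

* `two_trans`, `two_trans'`.
-/

set_option autoImplicit false
set_option linter.unusedSectionVars false

namespace Cfsg.Agent.H206.DPi

open MulAction

section

variable {G Ω : Type*} [Group G] [Fintype G] [MulAction G Ω] [Fintype Ω]

/-- `⟨f, g h⟩` -/
def ph (f h : Ω → ℚ) (g : G) : ℚ := ∑ w, f w * h (g⁻¹ • w)

theorem ph_mul {M B : Subgroup G} {f h : Ω → ℚ} (hf : ∀ m ∈ M, ∀ w, f (m • w) = f w)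
    (hh : ∀ b ∈ B, ∀ w, h (b • w) = h w) {m b : G} (hm : m ∈ M) (hb : b ∈ B) (g : G) :
    ph f h (m * g * b) = ph f h g := by
  unfold ph
  rw [← Equiv.sum_comp (MulAction.toPerm m)]
  refine Finset.sum_congr rfl fun w _ => ?_
  rw [MulAction.toPerm_apply, hf m hm, mul_inv_rev, mul_smul, hh _ (B.inv_mem hb), mul_inv_rev, mul_smul,
    inv_smul_smul]

/-- transitivity -/
theorem trans_of_two (h2 : ∀ a b c d : Ω, a ≠ b → c ≠ d → ∃ g : G, g • a = c ∧ g • b = d) (a b : Ω) :
    ∃ g : G, g • a = b := by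
  by_cases hab : a = b
  · exact ⟨1, by rw [one_smul, hab]⟩
  · obtain ⟨g, hg, _⟩ := h2 a b b a hab (Ne.symm hab)
    exact ⟨g, hg⟩

/-- the sum over the group -/
theorem sum_ph (h2 : ∀ a b c d : Ω, a ≠ b → c ≠ d → ∃ g : G, g • a = c ∧ g • b = d) (f h : Ω → ℚ)
    (h0 : ∑ w, h w = 0) : ∑ g : G, ph f h g = 0 := by
  unfold ph
  rw [Finset.sum_comm]
  have h1 : ∀ a b : Ω, ∑ g : G, h (g⁻¹ • a) = ∑ g : G, h (g⁻¹ • b) := by
    intro a b
    obtain ⟨s, hs⟩ := trans_of_two h2 a b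
    rw [← Equiv.sum_comp (Equiv.mulLeft s) (fun g : G => h (g⁻¹ • b))]
    refine Finset.sum_congr rfl fun g _ => ?_
    rw [Equiv.coe_mulLeft, mul_inv_rev, mul_smul, ← hs, inv_smul_smul]
  have h3 : ∀ a : Ω, ∑ g : G, h (g⁻¹ • a) = 0 := by
    intro a
    have h4 : ∑ b : Ω, ∑ g : G, h (g⁻¹ • b) = 0 := by
      rw [Finset.sum_comm]
      refine Finset.sum_eq_zero fun g _ => ?_
      have h5 := Equiv.sum_comp (MulAction.toPerm (g⁻¹) : Equiv.Perm Ω) h
      rw [h0] at h5
      exact h5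
    rw [Finset.sum_congr rfl fun b _ => h1 b a, Finset.sum_const, nsmul_eq_mul] at h4
    rcases mul_eq_zero.1 h4 with h5 | h5
    · exfalso
      have : Nonempty Ω := ⟨a⟩
      exact (Finset.card_pos.2 Finset.univ_nonempty).ne' (Nat.cast_eq_zero.1 h5 : (Finset.univ : Finset Ω).card = 0)
    · exact h5
  refine Finset.sum_eq_zero fun w _ => ?_
  rw [← Finset.mul_sum, h3, mul_zero]

/-- the permutation module is irreducible -/
theorem irred (h2 : ∀ a b c d : Ω, a ≠ b → c ≠ d → ∃ g : G, g • a = c ∧ g • b = d) {f h : Ω → ℚ}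
    (f0 : ∑ w, f w = 0) (h0 : ∑ w, h w = 0) (hne : h ≠ 0) (hph : ∀ g : G, ph f h g = 0) : f = 0 := by
  classical
  obtain ⟨a, ha⟩ := Function.ne_iff.1 hne
  rw [Pi.zero_apply] at ha
  obtain ⟨a', ha'⟩ : ∃ a', a' ≠ a := by
    by_contra hcon
    push Not at hcon
    apply ha
    rw [← h0, Finset.sum_eq_single a (fun b _ hb => absurd (hcon b) hb) (fun h => absurd (Finset.mem_univ _) h)]
  funext w₀
  rw [Pi.zero_apply]
  obtain ⟨g₀, hg₀⟩ := trans_of_two h2 a w₀
  -- a point different from `w₀`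
  obtain ⟨w₁, hw₁⟩ : ∃ w₁, w₁ ≠ w₀ := by
    by_cases h : a = w₀
    · exact ⟨a', by rw [← h]; exact ha'⟩
    · exact ⟨a, h⟩
  let H : Ω → ℚ := fun w => ∑ g : stabilizer G w₀, h (g₀⁻¹ • (g : G)⁻¹ • w)
  have hH0 : H w₀ = Fintype.card (stabilizer G w₀) * h a := by
    change ∑ g : stabilizer G w₀, h (g₀⁻¹ • (g : G)⁻¹ • w₀) = _
    have : ∀ g : stabilizer G w₀, h (g₀⁻¹ • (g : G)⁻¹ • w₀) = h a := by
      intro g
      have h3 : (g : G)⁻¹ • w₀ = w₀ := (stabilizer G w₀).inv_mem g.2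
      rw [h3, ← hg₀, inv_smul_smul]
    rw [Finset.sum_congr rfl fun g _ => this g, Finset.sum_const, nsmul_eq_mul, Finset.card_univ]
  have hHc : ∀ w, w ≠ w₀ → H w = H w₁ := by
    intro w hw
    obtain ⟨s, hs1, hs2⟩ := h2 w₀ w w₀ w₁ hw.symm hw₁.symm
    change _ = ∑ g : stabilizer G w₀, h (g₀⁻¹ • (g : G)⁻¹ • w₁)
    rw [← Equiv.sum_comp (Equiv.mulLeft (⟨s, hs1⟩ : stabilizer G w₀))]
    refine Finset.sum_congr rfl fun g _ => ?_
    rw [Equiv.coe_mulLeft, Subgroup.coe_mul, mul_inv_rev, mul_smul, ← hs2, inv_smul_smul]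
  have hHs : ∑ w, H w = 0 := by
    change ∑ w, ∑ g : stabilizer G w₀, h (g₀⁻¹ • (g : G)⁻¹ • w) = 0
    rw [Finset.sum_comm]
    refine Finset.sum_eq_zero fun g _ => ?_
    have h5 := Equiv.sum_comp (MulAction.toPerm (g₀⁻¹ * (g : G)⁻¹) : Equiv.Perm Ω) h
    rw [h0] at h5
    rw [← h5]
    refine Finset.sum_congr rfl fun w _ => ?_
    rw [MulAction.toPerm_apply, mul_smul]
  have hfH : ∑ w, f w * H w = 0 := by
    change ∑ w, f w * ∑ g : stabilizer G w₀, h (g₀⁻¹ • (g : G)⁻¹ • w) = 0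
    rw [Finset.sum_congr rfl fun w _ => Finset.mul_sum _ _ _, Finset.sum_comm]
    refine Finset.sum_eq_zero fun g _ => ?_
    have h3 := hph ((g : G) * g₀)
    unfold ph at h3
    rw [← h3]
    refine Finset.sum_congr rfl fun w _ => ?_
    rw [mul_inv_rev, mul_smul]
  have hsplit : ∀ F : Ω → ℚ, ∑ w, F w = F w₀ + ∑ w ∈ Finset.univ.erase w₀, F w :=
    fun F => (Finset.add_sum_erase _ _ (Finset.mem_univ w₀)).symm
  have e1 : ∑ w ∈ Finset.univ.erase w₀, H w = (Finset.univ.erase w₀).card * H w₁ := by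
    rw [Finset.sum_congr rfl fun w hw => hHc w (Finset.ne_of_mem_erase hw), Finset.sum_const, nsmul_eq_mul]
  have e2 : ∑ w ∈ Finset.univ.erase w₀, f w * H w = (∑ w ∈ Finset.univ.erase w₀, f w) * H w₁ := by
    rw [Finset.sum_congr rfl fun w hw => by rw [hHc w (Finset.ne_of_mem_erase hw)], ← Finset.sum_mul]
  rw [hsplit, e1] at hHs
  rw [hsplit (fun w => f w * H w), e2] at hfH
  rw [hsplit] at f0
  have e3 : f w₀ * (H w₀ - H w₁) = 0 := by linear_combination hfH - f0 * H w₁
  rcases mul_eq_zero.1 e3 with h4 | h4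
  · exact h4
  · exfalso
    have h5 : H w₀ = H w₁ := sub_eq_zero.1 h4
    have h6 : ((Finset.univ.erase w₀).card + 1 : ℚ) * H w₀ = 0 := by
      rw [← h5] at hHs
      linear_combination hHs
    rcases mul_eq_zero.1 h6 with h7 | h7
    · have : (0 : ℚ) < ((Finset.univ.erase w₀).card + 1 : ℚ) := by positivity
      exact this.ne' h7
    · rw [hH0] at h7
      rcases mul_eq_zero.1 h7 with h8 | h8
      · exact Fintype.card_ne_zero (Nat.cast_eq_zero.1 h8)
      · exact ha h8

open Classical in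
/-- the centred indicator function of an orbit -/
noncomputable def ind (M : Subgroup G) (a : Ω) (w : Ω) : ℚ :=
  (if ∃ g ∈ M, g • a = w then 1 else 0) -
    (Finset.univ.filter fun w : Ω => ∃ g ∈ M, g • a = w).card / Fintype.card Ω

theorem ind_inv (M : Subgroup G) (a : Ω) : ∀ m ∈ M, ∀ w, ind M a (m • w) = ind M a w := by
  classical
  intro m hm w
  unfold ind
  have : (∃ g ∈ M, g • a = m • w) ↔ ∃ g ∈ M, g • a = w := by
    constructor
    · rintro ⟨g, hg, h⟩
      exact ⟨m⁻¹ * g, M.mul_mem (M.inv_mem hm) hg, by rw [mul_smul, h, inv_smul_smul]⟩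
    · rintro ⟨g, hg, h⟩
      exact ⟨m * g, M.mul_mem hm hg, by rw [mul_smul, h]⟩
  simp only [this]

theorem ind_sum (M : Subgroup G) (a : Ω) : ∑ w, ind M a w = 0 := by
  classical
  unfold ind
  rw [Finset.sum_sub_distrib, Finset.sum_boole, Finset.sum_const, nsmul_eq_mul, Finset.card_univ]
  have : Nonempty Ω := ⟨a⟩
  have h : (Fintype.card Ω : ℚ) ≠ 0 := Nat.cast_ne_zero.2 Fintype.card_ne_zero
  rw [mul_div_cancel₀ _ h, sub_self]

theorem ind_self_sub (M : Subgroup G) {a b : Ω} (h : ∀ g ∈ M, g • a ≠ b) : ind M a a - ind M a b = 1 := by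
  classical
  unfold ind
  rw [if_pos ⟨1, M.one_mem, one_smul _ _⟩, if_neg (fun ⟨g, hg, h'⟩ => h g hg h')]
  ring

theorem ind_sub_ne (M : Subgroup G) {a b c : Ω} (h : ∀ g ∈ M, g • a ≠ b) (h' : ∀ g ∈ M, g • a ≠ c) :
    ind M a b - ind M a c = 0 := by
  classical
  unfold ind
  rw [if_neg (fun ⟨g, hg, h1⟩ => h g hg h1), if_neg (fun ⟨g, hg, h1⟩ => h' g hg h1)]
  ring

end

section main

variable {G Ω : Type*} [Group G] [Finite G] [MulAction G Ω] [Finite Ω]

theorem two_trans (h2 : ∀ a b c d : Ω, a ≠ b → c ≠ d → ∃ g : G, g • a = c ∧ g • b = d) (M B : Subgroup G)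
    (hcov : ∀ g : G, ∃ m ∈ M, ∃ b ∈ B, g = m * b) :
    (∀ a b : Ω, ∃ g ∈ M, g • a = b) ∨ ∀ a b : Ω, ∃ g ∈ B, g • a = b := by
  have := Fintype.ofFinite G
  have := Fintype.ofFinite Ω
  by_contra hcon
  push Not at hcon
  obtain ⟨⟨a, b, hab⟩, c, d, hcd⟩ := hcon
  have hh : ind B c ≠ 0 := by
    intro h
    have := ind_self_sub B hcd
    rw [h] at this
    norm_num at this
  have hf : ind M a ≠ 0 := by
    intro h
    have := ind_self_sub M hab
    rw [h] at this
    norm_num at this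
  refine hf (irred h2 (ind_sum M a) (ind_sum B c) hh ?_)
  have h1 : ∀ g : G, ph (ind M a) (ind B c) g = ph (ind M a) (ind B c) (1 : G) := by
    intro g
    obtain ⟨m, hm, b, hb, rfl⟩ := hcov g
    have := ph_mul (ind_inv M a) (ind_inv B c) hm hb 1
    rwa [mul_one] at this
  have h3 := sum_ph h2 (ind M a) (ind B c) (ind_sum B c)
  rw [Finset.sum_congr rfl fun g _ => h1 g, Finset.sum_const, nsmul_eq_mul] at h3
  intro g
  rw [h1]
  refine (mul_eq_zero.1 h3).resolve_left ?_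
  exact Nat.cast_ne_zero.2 (Finset.card_pos.2 Finset.univ_nonempty).ne'

theorem two_trans' (h2 : ∀ a b c d : Ω, a ≠ b → c ≠ d → ∃ g : G, g • a = c ∧ g • b = d) (M B : Subgroup G) (g₀ : G)
    (hcov : ∀ g : G, (∃ m ∈ M, ∃ b ∈ B, g = m * b) ∨ ∃ m ∈ M, ∃ b ∈ B, g = m * g₀ * b) (x y z : Ω)
    (hxy : ∀ g ∈ M, g • x ≠ y) (hxz : ∀ g ∈ M, g • x ≠ z) (hyz : ∀ g ∈ M, g • y ≠ z) :
    ∀ a b : Ω, ∃ g ∈ B, g • a = b := by
  have := Fintype.ofFinite G
  have := Fintype.ofFinite Ω
  by_contra hcon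
  push Not at hcon
  obtain ⟨c, d, hcd⟩ := hcon
  have hyx : ∀ g ∈ M, g • y ≠ x := by
    intro g hg h
    exact hxy g⁻¹ (M.inv_mem hg) (by rw [← h, inv_smul_smul])
  set h := ind B c with hh
  have hh0 : h ≠ 0 := by
    intro h'
    have := ind_self_sub B hcd
    rw [← hh, h'] at this
    norm_num at this
  have hhs : ∑ w, h w = 0 := ind_sum B c
  have hhi : ∀ b ∈ B, ∀ w, h (b • w) = h w := ind_inv B c
  -- an invariant function orthogonal to `h`
  have key : ∀ α β : ℚ, ph (fun w => α * ind M x w + β * ind M y w) h (1 : G) = 0 → α = 0 ∧ β = 0 := by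
    intro α β h1
    set f : Ω → ℚ := fun w => α * ind M x w + β * ind M y w with hf
    have hfi : ∀ m ∈ M, ∀ w, f (m • w) = f w := by
      intro m hm w
      rw [hf]
      change α * ind M x (m • w) + β * ind M y (m • w) = α * ind M x w + β * ind M y w
      rw [ind_inv M x m hm, ind_inv M y m hm]
    have hfs : ∑ w, f w = 0 := by
      rw [hf, Finset.sum_add_distrib, ← Finset.mul_sum, ← Finset.mul_sum, ind_sum, ind_sum, mul_zero, mul_zero,
        add_zero]
    have h3 : ∀ g : G, ph f h g = 0 ∨ ph f h g = ph f h g₀ := by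
      intro g
      rcases hcov g with ⟨m, hm, b, hb, rfl⟩ | ⟨m, hm, b, hb, rfl⟩
      · left
        have := ph_mul hfi hhi hm hb 1
        rw [mul_one] at this
        rw [this, h1]
      · right
        exact ph_mul hfi hhi hm hb g₀
    have h4 := sum_ph h2 f h hhs
    have h5 : ∀ g : G, ph f h g = 0 := by
      rcases le_total 0 (ph f h g₀) with h6 | h6
      · have h7 := (Finset.sum_eq_zero_iff_of_nonneg (s := Finset.univ) (f := fun g : G => ph f h g) (fun g _ => by
          rcases h3 g with h8 | h8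
          · change 0 ≤ ph f h g
            rw [h8]
          · change 0 ≤ ph f h g
            rw [h8]
            exact h6)).1 h4
        exact fun g => h7 g (Finset.mem_univ _)
      · have h7 := (Finset.sum_eq_zero_iff_of_nonpos (s := Finset.univ) (f := fun g : G => ph f h g) (fun g _ => by
          rcases h3 g with h8 | h8
          · change ph f h g ≤ 0
            rw [h8]
          · change ph f h g ≤ 0
            rw [h8]
            exact h6)).1 h4
        exact fun g => h7 g (Finset.mem_univ _)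
    have h6 := irred h2 hfs hhs hh0 h5
    have ex : α * ind M x x + β * ind M y x = 0 := congrFun h6 x
    have ey : α * ind M x y + β * ind M y y = 0 := congrFun h6 y
    have ez : α * ind M x z + β * ind M y z = 0 := congrFun h6 z
    have i1 := ind_self_sub M hxz
    have i2 := ind_sub_ne M hyx hyz
    have i3 := ind_self_sub M hyz
    have i4 := ind_sub_ne M hxy hxz
    constructor
    · linear_combination ex - ez - α * i1 - β * i2
    · linear_combination ey - ez - β * i3 - α * i4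
  have hlin : ∀ α β : ℚ, ph (fun w => α * ind M x w + β * ind M y w) h (1 : G) =
      α * ph (ind M x) h (1 : G) + β * ph (ind M y) h (1 : G) := by
    intro α β
    unfold ph
    rw [Finset.mul_sum, Finset.mul_sum, ← Finset.sum_add_distrib]
    refine Finset.sum_congr rfl fun w _ => ?_
    ring
  have h1 := key (ph (ind M y) h (1 : G)) (-ph (ind M x) h (1 : G)) (by rw [hlin]; ring)
  have h3 := key 1 0 (by rw [hlin, neg_eq_zero.1 h1.2]; ring)
  exact one_ne_zero h3.1

end main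

end Cfsg.Agent.H206.DPi

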